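import Mathlib
import Groth.Agent.H27.TrRes.Diff8

/-!
# Approximation inside a subring: general version
-/

set_option autoImplicit false

namespace Groth.Agent.H27.Adj

open WithZero FunFld Groth.Agent.H55 Groth.Agent.H27.Tate

variable {k K' : Type*} [Field k] [Field K'] [Algebra k K']

/-- Successive approximation at `Q` by elements of a subring containing a local parameter and
representatives of all residues. -/
theorem exists_subring_approx (Q : Place k K') (B : Subring K')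
    (hlift : ∀ c : K', Q.1 c ≤ 1 → ∃ u ∈ B, Q.1 (c - u) < 1)
    (π : K') (hπB : π ∈ B) (hπ : Q.1 π = exp (-1)) (m : ℕ) (t : K') (ht : Q.1 t ≤ 1) :
    ∃ p ∈ B, Q.1 (t - p) ≤ exp (-(m : ℤ)) := by
  induction m with
  | zero =>
    refine ⟨0, B.zero_mem, ?_⟩
    rw [sub_zero]
    simpa using ht
  | succ m ih =>
    obtain ⟨p, hp, hpv⟩ := ih
    have hs0 : π ≠ 0 := by
      intro h0; rw [h0, map_zero] at hπ; exact exp_ne_zero hπ.symm
    have hc : Q.1 ((t - p) * (π ^ m)⁻¹) ≤ 1 := by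
      rw [map_mul, map_inv₀, map_pow, hπ, ← exp_nsmul, ← exp_neg, nsmul_eq_mul]
      calc Q.1 (t - p) * exp (-((m : ℤ) * -1)) ≤ exp (-(m : ℤ)) * exp (-((m : ℤ) * -1)) :=
            mul_le_mul' hpv le_rfl
        _ = 1 := by rw [← exp_add, ← exp_zero]; congr 1; ring
    obtain ⟨u, hu, huv⟩ := hlift _ hc
    refine ⟨p + u * π ^ m, B.add_mem hp (B.mul_mem hu (B.pow_mem hπB _)), ?_⟩
    have e1 : t - (p + u * π ^ m) = π ^ m * ((t - p) * (π ^ m)⁻¹ - u) := by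
      field_simp
      ring
    rw [e1, map_mul, map_pow, hπ, ← exp_nsmul, nsmul_eq_mul]
    calc exp ((m : ℤ) * -1) * Q.1 ((t - p) * (π ^ m)⁻¹ - u)
        ≤ exp ((m : ℤ) * -1) * exp (-1) :=
          mul_le_mul' le_rfl (le_exp_neg_one_of_lt_one huv)
      _ = exp (-((m + 1 : ℕ) : ℤ)) := by
          rw [← exp_add]; congr 1; push_cast; ring

/-- Approximation at `Q` by elements of the subring which are small at the other places. -/
theorem exists_subring_approx_small (Qs : Finset (Place k K')) (Q : Place k K') (B : Subring K')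
    (hlift : ∀ c : K', Q.1 c ≤ 1 → ∃ u ∈ B, Q.1 (c - u) < 1)
    (π : K') (hπB : π ∈ B) (hπ : Q.1 π = exp (-1))
    (b₀ : K') (hb₀ : b₀ ∈ B) (hb₀Q : Q.1 b₀ = 1)
    (hb₀' : ∀ Q' ∈ Qs, Q' ≠ Q → Q'.1 b₀ < 1)
    (hint : ∀ p ∈ B, ∀ Q' ∈ Qs, Q'.1 p ≤ 1)
    (t : K') (ht : Q.1 t ≤ 1) (m : ℕ) (M : Place k K' → WithZero (Multiplicative ℤ))
    (hM : ∀ Q', M Q' ≠ 0) :
    ∃ z ∈ B, Q.1 (z - t) ≤ exp (-(m : ℤ)) ∧ ∀ Q' ∈ Qs, Q' ≠ Q → Q'.1 z ≤ (M Q')⁻¹ := by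
  classical
  obtain ⟨N₀, hN₀⟩ := (Qs.image (fun Q' => log (M Q'))).exists_le
  set N := N₀.toNat with hN
  have hb₀0 : b₀ ≠ 0 := by
    intro h0; rw [h0, map_zero] at hb₀Q; exact zero_ne_one hb₀Q
  have ht' : Q.1 (t * (b₀ ^ N)⁻¹) ≤ 1 := by
    rw [map_mul, map_inv₀, map_pow, hb₀Q, one_pow, inv_one, mul_one]; exact ht
  obtain ⟨p, hp, hpv⟩ := exists_subring_approx Q B hlift π hπB hπ m _ ht'
  refine ⟨b₀ ^ N * p, B.mul_mem (B.pow_mem hb₀ _) hp, ?_, ?_⟩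
  · have e1 : b₀ ^ N * p - t = - (b₀ ^ N * (t * (b₀ ^ N)⁻¹ - p)) := by
      field_simp
      ring
    rw [e1, Valuation.map_neg, map_mul, map_pow, hb₀Q, one_pow, one_mul]
    exact hpv
  · intro Q' hQ' hne
    rw [map_mul, map_pow]
    have h1 : Q'.1 b₀ ≤ exp (-1) := le_exp_neg_one_of_lt_one (hb₀' Q' hQ' hne)
    have h2 : log (M Q') ≤ N₀ := hN₀ _ (Finset.mem_image_of_mem _ hQ')
    calc Q'.1 b₀ ^ N * Q'.1 p ≤ exp (-1) ^ N * 1 :=
          mul_le_mul' (pow_le_pow_left₀ zero_le' h1 N) (hint p hp Q' hQ')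
      _ = exp (-(N : ℤ)) := by rw [mul_one, ← exp_nsmul, nsmul_eq_mul]; congr 1; ring
      _ ≤ exp (-log (M Q')) := by
          rw [exp_le_exp, hN]
          have := Int.self_le_toNat N₀
          omega
      _ = (M Q')⁻¹ := exp_neg_log_eq_inv (hM Q')

/-- A product of separating elements. -/
theorem exists_prod_sep (Qs : Finset (Place k K')) (Q : Place k K') (B : Subring K')
    (hint : ∀ p ∈ B, ∀ Q' ∈ Qs, Q'.1 p ≤ 1)
    (hsep : ∀ Q' ∈ Qs, Q' ≠ Q → ∃ β ∈ B, Q.1 β = 1 ∧ Q'.1 β < 1) :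
    ∃ b₀ ∈ B, Q.1 b₀ = 1 ∧ ∀ Q' ∈ Qs, Q' ≠ Q → Q'.1 b₀ < 1 := by
  classical
  have hex : ∀ Q' : Place k K', ∃ β ∈ B, Q.1 β = 1 ∧ (Q' ∈ Qs → Q' ≠ Q → Q'.1 β < 1) := by
    intro Q'
    by_cases h : Q' ∈ Qs ∧ Q' ≠ Q
    · obtain ⟨β, h1, h2, h3⟩ := hsep Q' h.1 h.2
      exact ⟨β, h1, h2, fun _ _ => h3⟩
    · exact ⟨1, B.one_mem, map_one _, fun h1 h2 => absurd ⟨h1, h2⟩ h⟩
  choose β hβB hβQ hβ using hex
  refine ⟨∏ Q' ∈ Qs.erase Q, β Q', B.prod_mem (fun Q' _ => hβB Q'), ?_, fun Q' hQ' hne => ?_⟩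
  · rw [map_prod]
    exact Finset.prod_eq_one (fun Q' _ => hβQ Q')
  · have hmem : Q' ∈ Qs.erase Q := Finset.mem_erase.2 ⟨hne, hQ'⟩
    rw [map_prod, ← Finset.mul_prod_erase _ _ hmem]
    have h1 := hβ Q' hQ' hne
    have h2 : ∏ Q'' ∈ (Qs.erase Q).erase Q', Q'.1 (β Q'') ≤ 1 :=
      Finset.prod_le_one' (fun Q'' _ => hint _ (hβB Q'') Q' hQ')
    calc Q'.1 (β Q') * ∏ Q'' ∈ (Qs.erase Q).erase Q', Q'.1 (β Q'')
        ≤ Q'.1 (β Q') * 1 := mul_le_mul' le_rfl h2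
      _ = Q'.1 (β Q') := mul_one _
      _ < 1 := h1

end Groth.Agent.H27.Adj
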