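import Mathlib
import Groth.Agent.H81.RatPlace
import Groth.Agent.H81.Dehom
import Groth.Agent.S12612

/-!
# Plane models: the polynomial `F(1, x, Y)` over `k⟮x⟯`
-/

set_option autoImplicit false

namespace Groth.Agent.H27.Adj

open FunFld WithZero IntermediateField Groth.Agent.H81.RatPlace

variable {k K : Type*} [Field k] [Field K] [Algebra k K]

theorem val_algebraMap_le_one (Q : Place k K) (c : k) : Q.1 (algebraMap k K c) ≤ 1 := Q.2.1 c

/-- Polynomial expressions at points congruent to constants. -/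
theorem val_aeval_sub_eval_lt {σ : Type*} (Q : Place k K) (v : σ → K) (c : σ → k)
    (h : ∀ i, Q.1 (v i - algebraMap k K (c i)) < 1) (p : MvPolynomial σ k) :
    Q.1 (MvPolynomial.aeval v p - algebraMap k K (MvPolynomial.eval c p)) < 1 := by
  have hv : ∀ i, Q.1 (v i) ≤ 1 := fun i => by
    have : v i = (v i - algebraMap k K (c i)) + algebraMap k K (c i) := by ring
    rw [this]
    exact (Q.1.map_add _ _).trans (max_le (h i).le (Q.2.1 _))
  induction p using MvPolynomial.induction_on with
  | C a =>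
    rw [MvPolynomial.aeval_C, MvPolynomial.eval_C, sub_self, map_zero]
    exact zero_lt_one
  | add p q hp hq =>
    rw [map_add, map_add, map_add]
    have : MvPolynomial.aeval v p + MvPolynomial.aeval v q -
        (algebraMap k K (MvPolynomial.eval c p) + algebraMap k K (MvPolynomial.eval c q)) =
        (MvPolynomial.aeval v p - algebraMap k K (MvPolynomial.eval c p)) +
        (MvPolynomial.aeval v q - algebraMap k K (MvPolynomial.eval c q)) := by ring
    rw [this]
    exact lt_of_le_of_lt (Q.1.map_add _ _) (max_lt hp hq)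
  | mul_X p i hp =>
    rw [map_mul, map_mul, map_mul, MvPolynomial.aeval_X, MvPolynomial.eval_X]
    have : MvPolynomial.aeval v p * v i -
        algebraMap k K (MvPolynomial.eval c p) * algebraMap k K (c i) =
        (MvPolynomial.aeval v p - algebraMap k K (MvPolynomial.eval c p)) * v i +
        algebraMap k K (MvPolynomial.eval c p) * (v i - algebraMap k K (c i)) := by ring
    rw [this]
    refine lt_of_le_of_lt (Q.1.map_add _ _) (max_lt ?_ ?_)
    · rw [map_mul]
      calc Q.1 (MvPolynomial.aeval v p - algebraMap k K (MvPolynomial.eval c p)) * Q.1 (v i)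
          ≤ Q.1 (MvPolynomial.aeval v p - algebraMap k K (MvPolynomial.eval c p)) * 1 :=
            mul_le_mul' le_rfl (hv i)
        _ < 1 := by rw [mul_one]; exact hp
    · rw [map_mul]
      calc Q.1 (algebraMap k K (MvPolynomial.eval c p)) * Q.1 (v i - algebraMap k K (c i))
          ≤ 1 * Q.1 (v i - algebraMap k K (c i)) := mul_le_mul' (Q.2.1 _) le_rfl
        _ < 1 := by rw [one_mul]; exact h i

theorem const_eq_zero_of_val_lt (Q : Place k K) {c : k} (h : Q.1 (algebraMap k K c) < 1) :
    c = 0 := by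
  by_contra hc
  rw [val_const Q hc] at h
  exact lt_irrefl _ h

/-- Degree count for the monomials of a homogeneous polynomial in three variables. -/
theorem sum_eq_of_mem_support {F : MvPolynomial (Fin 3) k} {d : ℕ} (hF : F.IsHomogeneous d)
    {m : Fin 3 →₀ ℕ} (hm : m ∈ F.support) : m 0 + m 1 + m 2 = d := by
  have h : Finsupp.weight 1 m = d := hF (MvPolynomial.mem_support_iff.mp hm)
  rw [Finsupp.weight_apply, Finsupp.sum_fintype _ _ (by simp)] at h
  simpa [Fin.sum_univ_three] using h

theorem eq_single_of_two_eq {m : Fin 3 →₀ ℕ} {d : ℕ} (h : m 0 + m 1 + m 2 = d) (h2 : m 2 = d) :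
    m = Finsupp.single 2 d := by
  ext i
  fin_cases i
  · simp; omega
  · simp; omega
  · simp [h2]

/-- The value at `(0 : 0 : 1)` of a homogeneous polynomial is its `X₂ ^ d`-coefficient. -/
theorem eval_e2 {F : MvPolynomial (Fin 3) k} {d : ℕ} (hF : F.IsHomogeneous d) :
    MvPolynomial.eval ![0, 0, 1] F = F.coeff (Finsupp.single 2 d) := by
  classical
  rw [MvPolynomial.eval_eq']
  rw [Finset.sum_eq_single (Finsupp.single 2 d)]
  · simp [Fin.prod_univ_three]
  · intro m hm hne
    have hs := sum_eq_of_mem_support hF hm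
    have h2 : m 2 ≠ d := fun h2 => hne (eq_single_of_two_eq hs h2)
    have : m 0 ≠ 0 ∨ m 1 ≠ 0 := by omega
    rcases this with h | h
    · simp [Fin.prod_univ_three, zero_pow h]
    · simp [Fin.prod_univ_three, zero_pow h]
  · intro hm
    rw [MvPolynomial.notMem_support_iff.mp hm, zero_mul]

/-- The polynomial `F(1, x, Y)` over `k⟮x⟯`. -/
noncomputable def polyY (x : K) (F : MvPolynomial (Fin 3) k) : Polynomial k⟮x⟯ :=
  MvPolynomial.aeval ![1, Polynomial.C (gen (k := k) x), Polynomial.X] F

theorem aeval_polyY (x y : K) (F : MvPolynomial (Fin 3) k) :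
    Polynomial.aeval y (polyY x F) = MvPolynomial.aeval ![1, x, y] F := by
  have h := AlgHom.congr_fun (MvPolynomial.comp_aeval
    (![1, Polynomial.C (gen (k := k) x), Polynomial.X] : Fin 3 → Polynomial k⟮x⟯)
    ((Polynomial.aeval y : Polynomial k⟮x⟯ →ₐ[k⟮x⟯] K).restrictScalars k)) F
  rw [AlgHom.comp_apply] at h
  have hv : (fun i => ((Polynomial.aeval y : Polynomial k⟮x⟯ →ₐ[k⟮x⟯] K).restrictScalars k)
      ((![1, Polynomial.C (gen (k := k) x), Polynomial.X] : Fin 3 → Polynomial k⟮x⟯) i)) =
      ![1, x, y] := by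
    funext i
    fin_cases i
    · simp
    · simp
    · simp
  rw [hv] at h
  exact h

theorem polyY_eq_sum (x : K) (F : MvPolynomial (Fin 3) k) :
    polyY x F = ∑ m ∈ F.support, Polynomial.C (algebraMap k k⟮x⟯ (F.coeff m) *
      gen (k := k) x ^ m 1) * Polynomial.X ^ m 2 := by
  unfold polyY
  rw [MvPolynomial.aeval_def, MvPolynomial.eval₂_eq']
  refine Finset.sum_congr rfl (fun m _ => ?_)
  rw [Fin.prod_univ_three]
  simp only [Matrix.cons_val_zero, Matrix.cons_val_one, Matrix.cons_val_two, Matrix.head_cons,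
    Matrix.tail_cons, one_pow, one_mul]
  rw [map_mul, map_pow, ← mul_assoc]
  rfl

theorem natDegree_polyY_le (x : K) {F : MvPolynomial (Fin 3) k} {d : ℕ} (hF : F.IsHomogeneous d) :
    (polyY x F).natDegree ≤ d := by
  rw [polyY_eq_sum]
  refine Polynomial.natDegree_sum_le_of_forall_le _ _ (fun m hm => ?_)
  have := sum_eq_of_mem_support hF hm
  exact (Polynomial.natDegree_C_mul_X_pow_le _ _).trans (by omega)

theorem coeff_polyY (x : K) {F : MvPolynomial (Fin 3) k} {d : ℕ} (hF : F.IsHomogeneous d) :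
    (polyY x F).coeff d = algebraMap k k⟮x⟯ (MvPolynomial.eval ![0, 0, 1] F) := by
  classical
  rw [polyY_eq_sum, Polynomial.finset_sum_coeff, eval_e2 hF]
  simp only [Polynomial.coeff_C_mul_X_pow]
  by_cases hm : Finsupp.single 2 d ∈ F.support
  · rw [Finset.sum_eq_single_of_mem _ hm]
    · simp
    · intro m hm' hne
      have hs := sum_eq_of_mem_support hF hm'
      have h2 : m 2 ≠ d := fun h2 => hne (eq_single_of_two_eq hs h2)
      rw [if_neg (fun h => h2 h.symm)]
  · rw [MvPolynomial.notMem_support_iff.mp hm, map_zero]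
    refine Finset.sum_eq_zero (fun m hm' => ?_)
    have hs := sum_eq_of_mem_support hF hm'
    have h2 : m 2 ≠ d := fun h2 => hm (by rw [← eq_single_of_two_eq hs h2]; exact hm')
    rw [if_neg (fun h => h2 h.symm)]

theorem derivative_polyY (x : K) (F : MvPolynomial (Fin 3) k) :
    Polynomial.derivative (polyY x F) = polyY x (MvPolynomial.pderiv 2 F) := by
  unfold polyY
  induction F using MvPolynomial.induction_on with
  | C a => simp
  | add p q hp hq => rw [map_add, map_add, map_add, map_add, hp, hq]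
  | mul_X p i hp =>
    rw [map_mul, Polynomial.derivative_mul, hp, MvPolynomial.pderiv_mul, map_add, map_mul, map_mul,
      MvPolynomial.aeval_X]
    congr 1
    congr 1
    fin_cases i
    · simp [MvPolynomial.pderiv_X]
    · simp [MvPolynomial.pderiv_X]
    · simp [MvPolynomial.pderiv_X]

/-- If `F(0,0,1) ≠ 0` and `[K : k⟮x⟯] = d`, then `F(1, x, Y)` is a constant multiple of the minimal
polynomial of `y`. -/
theorem polyY_eq_C_mul_minpoly (x y : K) {F : MvPolynomial (Fin 3) k} {d : ℕ}
    (hF : F.IsHomogeneous d) (hFxy : MvPolynomial.aeval ![1, x, y] F = 0)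
    (hc : MvPolynomial.eval ![0, 0, 1] F ≠ 0) [FiniteDimensional k⟮x⟯ K]
    (hd : Module.finrank k⟮x⟯ K = d) (htop : k⟮x⟯⟮y⟯ = ⊤) :
    polyY x F = Polynomial.C (algebraMap k k⟮x⟯ (MvPolynomial.eval ![0, 0, 1] F)) *
      minpoly k⟮x⟯ y := by
  set c := algebraMap k k⟮x⟯ (MvPolynomial.eval ![0, 0, 1] F) with hcdef
  have hc0 : c ≠ 0 := (map_ne_zero _).2 hc
  have hyi : IsIntegral k⟮x⟯ y := Algebra.IsIntegral.isIntegral y
  have hmd : (minpoly k⟮x⟯ y).natDegree = d := by
    rw [← hd]
    exact (Field.primitive_element_iff_minpoly_natDegree_eq k⟮x⟯ y).mp htop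
  set q := Polynomial.C c⁻¹ * polyY x F with hq
  have hqd : q.natDegree ≤ d := by
    rw [hq]
    exact (Polynomial.natDegree_C_mul_le _ _).trans (natDegree_polyY_le x hF)
  have hqc : q.coeff d = 1 := by
    rw [hq, Polynomial.coeff_C_mul, coeff_polyY x hF, ← hcdef, inv_mul_cancel₀ hc0]
  have hqm : q.Monic := by
    rw [Polynomial.Monic, Polynomial.leadingCoeff]
    have : q.natDegree = d := le_antisymm hqd (Polynomial.le_natDegree_of_ne_zero (by
      rw [hqc]; exact one_ne_zero))
    rw [this, hqc]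
  have hqy : Polynomial.aeval y q = 0 := by
    rw [hq, map_mul, aeval_polyY, hFxy, mul_zero]
  have hdvd : minpoly k⟮x⟯ y ∣ q := minpoly.dvd _ _ hqy
  have heq : q = minpoly k⟮x⟯ y :=
    Polynomial.eq_of_monic_of_dvd_of_natDegree_le (minpoly.monic hyi) hqm hdvd (by rw [hmd]; exact hqd)
  rw [← heq, hq, ← mul_assoc, ← Polynomial.C_mul, mul_inv_cancel₀ hc0, Polynomial.C_1, one_mul]

end Groth.Agent.H27.Adj
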