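import Mathlib
import Groth.Agent.H27.Adj.Poly
import Groth.Agent.H27.TrRes.Diff8
import Groth.Agent.H27.Tate.ExistsExp
import Groth.Agent.H55.FFGeom3
import Groth.Agent.H55.FFLoc2
import Groth.Agent.H55.FFProj
import Groth.Agent.H55.FFDeg
import Groth.Agent.H27.MapDivOne
import Groth.Agent.H81.PlaneDeg

/-!
# Plane models in general position: the rational subfield `k⟮x⟯`
-/

set_option autoImplicit false

namespace Groth.Agent.H27.Adj

open FunFld WithZero IntermediateField Groth.Agent.H81.RatPlace Groth.Agent.H55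

variable {k K : Type*} [Field k] [Field K] [Algebra k K]

/-- If `F(0,0,1) ≠ 0`, then `y` is integral over `k[x]`: no poles outside those of `x`. -/
theorem val_y_le (Q' : Place k K) {F : MvPolynomial (Fin 3) k} {d : ℕ} (hF : F.IsHomogeneous d)
    (x y : K) (hFxy : MvPolynomial.aeval ![1, x, y] F = 0)
    (hc : MvPolynomial.eval ![0, 0, 1] F ≠ 0) : Q'.1 y ≤ max 1 (Q'.1 x) := by
  by_contra hcon
  rw [not_le, max_lt_iff] at hcon
  obtain ⟨h1, hx⟩ := hcon
  have hy0 : y ≠ 0 := by
    rintro rfl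
    rw [map_zero] at h1
    exact not_lt_zero' h1
  have hvy : Q'.1 y ≠ 0 := (Q'.1.ne_zero_iff).2 hy0
  have e := Groth.Agent.H81.Dehom.aeval_mul_of_isHomogeneous hF y⁻¹ ![1, x, y]
  rw [hFxy, mul_zero] at e
  have hcong := val_aeval_sub_eval_lt Q' (fun i => y⁻¹ * ![1, x, y] i) ![0, 0, 1] (fun i => by
    fin_cases i
    · simp only [Fin.zero_eta, Matrix.cons_val_zero, mul_one, map_zero, sub_zero, map_inv₀]
      exact inv_lt_one_of_one_lt₀ h1
    · simp only [Fin.mk_one, Matrix.cons_val_one, Matrix.cons_val_zero, map_zero, sub_zero,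
        map_mul, map_inv₀]
      rw [inv_mul_lt_iff₀ (zero_lt_iff.2 hvy), mul_one]
      exact hx
    · simp only [Fin.reduceFinMk, Matrix.cons_val_two, Matrix.tail_cons, Matrix.head_cons,
        map_one]
      rw [inv_mul_cancel₀ hy0, sub_self, map_zero]
      exact zero_lt_one) F
  rw [e, zero_sub, Valuation.map_neg] at hcong
  exact hc (const_eq_zero_of_val_lt Q' hcong)

/-- In general position `x` is transcendental. -/
theorem transcendental_x (hK : IsFunctionField k K) {F : MvPolynomial (Fin 3) k} {d : ℕ}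
    (hF : F.IsHomogeneous d) (x y : K) (hFxy : MvPolynomial.aeval ![1, x, y] F = 0)
    (hc : MvPolynomial.eval ![0, 0, 1] F ≠ 0)
    (hgen : IntermediateField.adjoin k ({x, y} : Set K) = ⊤) : Transcendental k x := by
  intro halg
  have hFF := G.isFF1_of_isFunctionField hK
  have hx1 : ∀ Q : Place k K, Q.1 x ≤ 1 := fun Q => by
    by_cases hx0 : x = 0
    · simp [hx0]
    · exact (G.val_eq_one_of_isAlgebraic Q hx0 halg).le
  have hy1 : ∀ Q : Place k K, Q.1 y ≤ 1 := fun Q =>
    (val_y_le Q hF x y hFxy hc).trans (max_le le_rfl (hx1 Q))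
  have hyalg : IsAlgebraic k y := by
    by_contra hy
    obtain ⟨P, hP⟩ := G.exists_pole hFF y hy
    exact absurd (hy1 P) (not_le.mpr hP)
  obtain ⟨⟨t, ht, -⟩, -⟩ := hK
  apply ht
  have halgK : Algebra.IsAlgebraic k (IntermediateField.adjoin k ({x, y} : Set K)) :=
    IntermediateField.isAlgebraic_adjoin (by
      intro z hz
      rcases hz with rfl | hz
      · exact halg.isIntegral
      · rw [Set.mem_singleton_iff] at hz
        subst hz
        exact hyalg.isIntegral)
  have htm : t ∈ IntermediateField.adjoin k ({x, y} : Set K) := by rw [hgen]; trivial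
  have h := halgK.isAlgebraic ⟨t, htm⟩
  have h2 := h.algHom (IntermediateField.adjoin k ({x, y} : Set K)).val
  simpa using h2

/-- In general position the divisor of the map is the pole divisor of `x`. -/
theorem mapDiv_eq_poleDiv_x (hK : IsFunctionField k K) {F : MvPolynomial (Fin 3) k} {d : ℕ}
    (hF : F.IsHomogeneous d) (x y : K) (hFxy : MvPolynomial.aeval ![1, x, y] F = 0)
    (hc : MvPolynomial.eval ![0, 0, 1] F ≠ 0) :
    mapDiv k ![(1 : K), x, y] = poleDiv k x := by
  ext Q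
  rw [poleDiv_apply hK]
  have hv := val_y_le Q hF x y hFxy hc
  have hkey := Groth.Agent.H81.PlaneDeg.exp_max_eq Q x
  apply Groth.Agent.H27.MapDivOne.mapDiv_eq_of_val hK _ 0 rfl Q
  · intro i
    rw [hkey]
    fin_cases i
    · simp
    · simp
    · simpa using hv
  · rw [hkey]
    rcases le_total (Q.1 x) 1 with h | h
    · exact ⟨0, by simp [max_eq_left h]⟩
    · exact ⟨1, by simp [max_eq_right h]⟩

theorem finrank_eq_deg (hK : IsFunctionField k K) {F : MvPolynomial (Fin 3) k} {d : ℕ}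
    (hF : F.IsHomogeneous d) (x y : K) (hFxy : MvPolynomial.aeval ![1, x, y] F = 0)
    (hc : MvPolynomial.eval ![0, 0, 1] F ≠ 0)
    (hgen : IntermediateField.adjoin k ({x, y} : Set K) = ⊤) :
    (Module.finrank k⟮x⟯ K : ℤ) = (mapDiv k ![(1 : K), x, y]).deg := by
  rw [mapDiv_eq_poleDiv_x hK hF x y hFxy hc,
    deg_poleDiv hK x (transcendental_x hK hF x y hFxy hc hgen)]

/-- The rational function field `k⟮x⟯` is a function field. -/
theorem isFunctionField_adjoin_simple [IsAlgClosed k] {x : K} (hx : Transcendental k x) :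
    IsFunctionField k k⟮x⟯ := by
  refine ⟨isFF1_adjoin_simple hx, fun y hy => ?_⟩
  have hirr := minpoly.irreducible hy.isIntegral
  have hdeg := IsAlgClosed.degree_eq_one_of_irreducible k hirr
  exact (minpoly.degree_eq_one_iff).1 hdeg

/-- At a finite place of `k⟮x⟯`, `x - a` is a local parameter. -/
theorem val_gen_sub_const (x : K) (P : Place k k⟮x⟯) (a : k)
    (h : P.1 (gen (k := k) x - algebraMap k k⟮x⟯ a) < 1) :
    P.1 (gen (k := k) x - algebraMap k k⟮x⟯ a) = exp (-1 : ℤ) := by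
  set t := gen (k := k) x - algebraMap k k⟮x⟯ a with ht
  have hval : ∀ q : Polynomial k, q ≠ 0 → ∃ n : ℕ, P.1 (Polynomial.aeval (gen (k := k) x) q) =
      P.1 t ^ n := by
    intro q hq
    obtain ⟨q', hq', hnd⟩ := Polynomial.exists_eq_pow_rootMultiplicity_mul_and_not_dvd q hq a
    refine ⟨q.rootMultiplicity a, ?_⟩
    have hq'a : q'.eval a ≠ 0 := fun h0 => hnd (Polynomial.dvd_iff_isRoot.mpr h0)
    have h1 := val_aeval_eq_one P a h q' hq'a
    conv_lhs => rw [hq']
    rw [map_mul, map_mul, h1, mul_one, map_pow, map_pow]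
    congr 2
    rw [map_sub, Polynomial.aeval_X, Polynomial.aeval_C]
  obtain ⟨r, hr⟩ := P.2.2 (exp (-1 : ℤ))
  obtain ⟨r₁, s₁, hrs⟩ := exists_frac x r
  have hr0 : r ≠ 0 := by
    rintro rfl
    rw [map_zero] at hr
    exact exp_ne_zero hr.symm
  have hr₁0 : r₁ ≠ 0 := by
    rintro rfl
    rw [map_zero, zero_div] at hrs
    exact hr0 hrs
  have hs₁0 : s₁ ≠ 0 := by
    rintro rfl
    rw [map_zero, div_zero] at hrs
    exact hr0 hrs
  obtain ⟨n₁, hn₁⟩ := hval r₁ hr₁0
  obtain ⟨n₂, hn₂⟩ := hval s₁ hs₁0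
  have ht0 : P.1 t ≠ 0 := by
    intro h0
    rw [hrs, map_div₀, hn₁, hn₂, h0] at hr
    rcases Nat.eq_zero_or_pos n₁ with h1 | h1
    · rcases Nat.eq_zero_or_pos n₂ with h2 | h2
      · rw [h1, h2, pow_zero, div_one] at hr
        rw [← exp_zero, exp_inj] at hr
        omega
      · rw [zero_pow h2.ne', div_zero] at hr
        exact exp_ne_zero hr.symm
    · rw [zero_pow h1.ne', zero_div] at hr
      exact exp_ne_zero hr.symm
  obtain ⟨m, hm⟩ : ∃ m : ℤ, P.1 t = exp m := ⟨log (P.1 t), (exp_log ht0).symm⟩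
  rw [hrs, map_div₀, hn₁, hn₂, hm, ← exp_nsmul, ← exp_nsmul, ← exp_sub, exp_inj] at hr
  rw [hm, ← exp_zero, exp_lt_exp] at h
  rw [hm, exp_inj]
  simp only [nsmul_eq_mul] at hr
  have h1 : m * ((n₁ : ℤ) - n₂) = -1 := by linarith
  have h2 : m ∣ 1 := ⟨-((n₁ : ℤ) - n₂), by linarith⟩
  rcases Int.isUnit_iff.1 (isUnit_of_dvd_one h2) with h3 | h3
  · omega
  · exact h3

end Groth.Agent.H27.Adj
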