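import Mathlib
import Groth.Agent.H27.Adj.Core
import Groth.Agent.H27.Adj.Approx

/-!
# The adjoint coefficient at a finite place in general position
-/

set_option autoImplicit false

namespace Groth.Agent.H27.Adj

open FunFld WithZero IntermediateField Groth.Agent.H81.RatPlace Groth.Agent.H55
  Groth.Agent.H27.Tate

variable {k K : Type*} [Field k] [Field K] [Algebra k K]

theorem adjoin_xy_mem_adjoin (x y : K) (P : Place k k⟮x⟯) (hPx : P.1 (gen (k := k) x) ≤ 1)
    {z : K} (hz : z ∈ Algebra.adjoin k ({x, y} : Set K)) :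
    z ∈ Algebra.adjoin P.O ({y} : Set K) := by
  induction hz using Algebra.adjoin_induction with
  | mem z hz =>
    rcases hz with rfl | hz
    · have := algebraMap_mem_adjoin (K' := K) P y hPx
      exact this
    · rw [Set.mem_singleton_iff] at hz
      rw [hz]
      exact Algebra.self_mem_adjoin_singleton _ _
  | algebraMap c =>
    have := algebraMap_mem_adjoin (K' := K) P y (P.2.1 c)
    rwa [← IsScalarTower.algebraMap_apply k k⟮x⟯ K] at this
  | add a b _ _ ha hb => exact Subalgebra.add_mem _ ha hb
  | mul a b _ _ ha hb => exact Subalgebra.mul_mem _ ha hb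

theorem adjoin_mem_locSub (x y : K) (P : Place k k⟮x⟯) (Q : Place k K) (a : k)
    (hPa : P.1 (gen (k := k) x - algebraMap k k⟮x⟯ a) < 1)
    (hQa : Q.1 (x - algebraMap k K a) < 1)
    {z : K} (hz : z ∈ Algebra.adjoin P.O ({y} : Set K)) :
    z ∈ locSub (Algebra.adjoin k ({x, y} : Set K)) Q := by
  induction hz using Algebra.adjoin_induction with
  | mem z hz =>
    rw [Set.mem_singleton_iff] at hz
    rw [hz]
    exact le_locSub _ _ (Algebra.subset_adjoin (by simp))
  | algebraMap r =>
    have hr : algebraMap P.O K r = algebraMap k⟮x⟯ K (r : k⟮x⟯) := by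
      rw [IsScalarTower.algebraMap_apply P.O k⟮x⟯ K]
      rfl
    rw [hr]
    obtain ⟨r₁, s₁, hrs⟩ := exists_frac x (r : k⟮x⟯)
    by_cases hs : Polynomial.aeval (gen (k := k) x) s₁ = 0
    · rw [hrs, hs, div_zero, map_zero]
      exact Subalgebra.zero_mem _
    · have hb : P.1 (Polynomial.aeval (gen (k := k) x) r₁ / Polynomial.aeval (gen (k := k) x) s₁)
          ≤ 1 := by
        rw [← hrs]
        exact (Valuation.mem_valuationSubring_iff P.1 _).1 r.2
      obtain ⟨u, v, hv, huv⟩ := exists_denominator P a hPa _ r₁ s₁ rfl hs hb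
      rw [← hrs] at huv
      have huv' := congrArg (algebraMap k⟮x⟯ K) huv
      rw [map_mul, algebraMap_aeval_gen, algebraMap_aeval_gen] at huv'
      have hmem : ∀ q : Polynomial k, Polynomial.aeval x q ∈ Algebra.adjoin k ({x, y} : Set K) :=
        fun q => Algebra.adjoin_mono (by simp) (Polynomial.aeval_mem_adjoin_singleton k x)
      refine ⟨Polynomial.aeval x u, hmem u, Polynomial.aeval x v, hmem v,
        val_aeval_eq_one Q a hQa v hv, ?_⟩
      rw [mul_comm]
      exact huv'
  | add a b _ _ ha hb => exact Subalgebra.add_mem _ ha hb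
  | mul a b _ _ ha hb => exact Subalgebra.mul_mem _ ha hb

end Groth.Agent.H27.Adj
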