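import Mathlib
import Groth.Agent.H27.Adj.Core2

/-!
# The adjoint coefficient at a finite place in general position: main theorem
-/

set_option autoImplicit false

namespace Groth.Agent.H27.Adj

open FunFld WithZero IntermediateField Groth.Agent.H81.RatPlace Groth.Agent.H55
  Groth.Agent.H27.Tate

universe u v

variable {k : Type u} {K : Type v} [Field k] [Field K] [Algebra k K]

theorem core [IsAlgClosed k] (hK : IsFunctionField k K)
    {F : MvPolynomial (Fin 3) k} {d : ℕ} (hF : F.IsHomogeneous d) (x y : K)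
    (hFxy : MvPolynomial.aeval ![1, x, y] F = 0)
    (hc : MvPolynomial.eval ![0, 0, 1] F ≠ 0)
    (hgen : IntermediateField.adjoin k ({x, y} : Set K) = ⊤)
    (hmd : (mapDiv k ![(1 : K), x, y]).deg = d)
    (Q : Place k K) (hQx : Q.1 x ≤ 1)
    (ΦQ : K →ₐ[k] LaurentSeries k) (hΦQ : LocRes.IsExpansionAt Q.1 ΦQ)
    (hne : LocRes.vDiff ΦQ (MvPolynomial.aeval ![1, x, y] (MvPolynomial.pderiv 2 F))⁻¹ x ≠ 0) :
    0 ≤ - LocRes.ordDiff ΦQ (MvPolynomial.aeval ![1, x, y] (MvPolynomial.pderiv 2 F))⁻¹ x ∧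
    (- LocRes.ordDiff ΦQ (MvPolynomial.aeval ![1, x, y] (MvPolynomial.pderiv 2 F))⁻¹ x = 0 ↔
      ∀ z : K, Q.1 z ≤ 1 → z ∈ locSub (Algebra.adjoin k ({x, y} : Set K)) Q) := by
  classical
  have hxtr := transcendental_x hK hF x y hFxy hc hgen
  have hK₀ : IsFunctionField k k⟮x⟯ := isFunctionField_adjoin_simple hxtr
  have hg₀ : IsGeometric k k⟮x⟯ := isGeometric_of_isAlgClosed
  haveI : FiniteDimensional k⟮x⟯ K := ff_finite hK hxtr
  have hd : Module.finrank k⟮x⟯ K = d := by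
    have := finrank_eq_deg hK hF x y hFxy hc hgen
    rw [hmd] at this
    exact_mod_cast this
  have htop : k⟮x⟯⟮y⟯ = ⊤ := by
    apply (IntermediateField.restrictScalars_eq_top_iff (K := k)).mp
    rw [IntermediateField.adjoin_adjoin_left, ← hgen]
    congr 1
  have hp := polyY_eq_C_mul_minpoly x y hF hFxy hc hd htop
  set Fy : K := MvPolynomial.aeval ![1, x, y] (MvPolynomial.pderiv 2 F) with hFy
  set δ : K := Polynomial.aeval y (Polynomial.derivative (minpoly k⟮x⟯ y)) with hδ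
  set c : k := MvPolynomial.eval ![0, 0, 1] F with hcdef
  have hFyδ : Fy = algebraMap k K c * δ := by
    rw [hFy, ← aeval_polyY, ← derivative_polyY, hp, Polynomial.derivative_C_mul, map_mul,
      Polynomial.aeval_C, ← IsScalarTower.algebraMap_apply]
  have hvm := vDiff_eq_mul hΦQ Fy⁻¹ x
  rw [hvm] at hne
  have hFy0 : Fy ≠ 0 := by
    intro h0
    rw [h0, inv_zero, map_zero, zero_mul] at hne
    exact hne rfl
  have hx' : LocRes.vDiff ΦQ 1 x ≠ 0 := fun h0 => hne (by rw [h0, mul_zero])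
  have hδ0 : δ ≠ 0 := by
    intro h0
    rw [hFyδ, h0, mul_zero] at hFy0
    exact hFy0 rfl
  -- separability
  have hyi : IsIntegral k⟮x⟯ y := Algebra.IsIntegral.isIntegral y
  have hsepy : IsSeparable k⟮x⟯ y := by
    unfold IsSeparable
    rw [Polynomial.separable_iff_derivative_ne_zero (minpoly.irreducible hyi)]
    intro h0
    rw [hδ, h0, map_zero] at hδ0
    exact hδ0 rfl
  haveI : Algebra.IsSeparable k⟮x⟯ k⟮x⟯⟮y⟯ :=
    (IntermediateField.isSeparable_adjoin_simple_iff_isSeparable k⟮x⟯ K).2 hsepy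
  haveI : Algebra.IsSeparable k⟮x⟯ K :=
    Algebra.IsSeparable.of_algHom k⟮x⟯ k⟮x⟯⟮y⟯
      ((IntermediateField.equivOfEq htop).trans IntermediateField.topEquiv).symm.toAlgHom
  -- the place below
  obtain ⟨P, e, he⟩ := exists_place_under (G.isFF1_of_isFunctionField hK₀) Q
  obtain ⟨a, ha⟩ := exists_const_sub_lt_one hK Q hQx
  have hcoe : algebraMap k⟮x⟯ K (gen (k := k) x - algebraMap k k⟮x⟯ a) = x - algebraMap k K a := by
    rw [map_sub, ← IsScalarTower.algebraMap_apply]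
    rfl
  have hPa : P.1 (gen (k := k) x - algebraMap k k⟮x⟯ a) < 1 := by
    by_contra hcon
    rw [not_lt] at hcon
    have h1 := he (gen (k := k) x - algebraMap k k⟮x⟯ a)
    rw [hcoe] at h1
    rw [h1] at ha
    exact absurd ha (not_lt.2 (one_le_pow₀ hcon))
  have hPt := val_gen_sub_const x P a hPa
  have hPx : P.1 (gen (k := k) x) ≤ 1 := by
    have : gen (k := k) x = (gen (k := k) x - algebraMap k k⟮x⟯ a) + algebraMap k k⟮x⟯ a := by ring
    rw [this]
    exact (P.1.map_add _ _).trans (max_le hPa.le (P.2.1 _))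
  obtain ⟨φ, hφ⟩ := Groth.Agent.H27.ExistsExp.exists_expansion hK₀ P
  have hvx : LocRes.vDiff φ 1 (gen (k := k) x) = 1 := by
    unfold LocRes.vDiff
    rw [map_one, one_mul]
    have h1 : φ (gen (k := k) x) = φ (gen (k := k) x - algebraMap k k⟮x⟯ a) +
        algebraMap k (LaurentSeries k) a := by
      rw [map_sub, φ.commutes]; ring
    rw [h1, map_add, Derivation.map_algebraMap, add_zero]
    have h2 : Valued.v (φ (gen (k := k) x - algebraMap k k⟮x⟯ a)) = exp (-(1 : ℤ)) := by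
      rw [hφ.1, hPt]
    have h3 := (Groth.Agent.H27.DiffExp.valued_D_of_val h2).2.1 (by simp)
    rw [h3]
    simp
  have hx₀ : LocRes.vDiff φ 1 (gen (k := k) x) ≠ 0 := by rw [hvx]; exact one_ne_zero
  have hgx : algebraMap k⟮x⟯ K (gen (k := k) x) = x := rfl
  have hx'' : LocRes.vDiff ΦQ 1 (algebraMap k⟮x⟯ K (gen (k := k) x)) ≠ 0 := by rw [hgx]; exact hx'
  have hdiffExp : LocRes.diffExp φ ΦQ e (gen (k := k) x) = LocRes.ordDiff ΦQ 1 x := by
    unfold LocRes.diffExp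
    rw [hgx]
    unfold LocRes.ordDiff
    rw [hvx, log_one, neg_zero, mul_zero, sub_zero]
  -- the places above
  obtain ⟨hfin, -⟩ := sum_ramIdx_mul_deg (K' := K) hK₀ P
  set Qs := hfin.toFinset with hQsd
  have hQs : ∀ Q', Q' ∈ Qs ↔ IsOver Q' P := fun Q' => by
    rw [hQsd, Set.Finite.mem_toFinset]; rfl
  have hQ : Q ∈ Qs := (hQs Q).2 ⟨e, he⟩
  have hxint : ∀ Q' ∈ Qs, Q'.1 x ≤ 1 := by
    intro Q' hQ'
    obtain ⟨e', he'⟩ := (hQs Q').1 hQ'
    have := he' (gen (k := k) x)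
    rw [hgx] at this
    rw [this]
    exact pow_le_one₀ zero_le' hPx
  have hyint : ∀ Q' ∈ Qs, Q'.1 y ≤ 1 := fun Q' hQ' =>
    (val_y_le Q' hF x y hFxy hc).trans (max_le le_rfl (hxint Q' hQ'))
  have hyI : IsIntegral P.O y := isIntegral_of_mem_intAt hK₀ P Qs hQs (fun Q' hQ' => hyint Q' hQ')
  obtain ⟨hle, heq⟩ := different_le_derivative hK₀ hg₀ k k P Q e he φ hφ ΦQ hΦQ (gen (k := k) x)
    hx₀ hx'' y htop hyI
  rw [hdiffExp, ← hδ] at hle heq
  -- the order relation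
  have hc1 : Q.1 (algebraMap k K c) = 1 := val_const Q hc
  have hQFy : Q.1 Fy = Q.1 δ := by rw [hFyδ, map_mul, hc1, one_mul]
  have hvFy : Q.1 Fy⁻¹ ≠ 0 := (Q.1.ne_zero_iff).2 (inv_ne_zero hFy0)
  have hrel : - LocRes.ordDiff ΦQ Fy⁻¹ x = Q.ord δ - LocRes.ordDiff ΦQ 1 x := by
    unfold LocRes.ordDiff Place.ord
    rw [hvm, log_mul hvFy hx', map_inv₀, log_inv, hQFy]
    ring
  rw [hrel]
  refine ⟨by omega, ⟨fun h0 z hz => ?_, fun hns => ?_⟩⟩
  · obtain ⟨a₁, ha₁, b₁, hb₁, hb₁Q, hzb⟩ := heq (by omega) z hz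
    have ha₁L := adjoin_mem_locSub x y P Q a hPa ha ha₁
    have hb₁L := adjoin_mem_locSub x y P Q a hPa ha hb₁
    have hb₁0 : b₁ ≠ 0 := by
      rintro rfl
      rw [map_zero] at hb₁Q
      exact zero_ne_one hb₁Q
    have : z = a₁ * b₁⁻¹ := by
      rw [← hzb]; field_simp
    rw [this]
    exact Subalgebra.mul_mem _ ha₁L (inv_mem_locSub hb₁L hb₁Q)
  · -- nonsingular implies equality
    have hAint : ∀ β ∈ Algebra.adjoin k ({x, y} : Set K), ∀ Q' ∈ Qs, Q'.1 β ≤ 1 := by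
      intro β hβ Q' hQ'
      induction hβ using Algebra.adjoin_induction with
      | mem z hz =>
        rcases hz with rfl | hz
        · exact hxint Q' hQ'
        · rw [Set.mem_singleton_iff] at hz
          rw [hz]; exact hyint Q' hQ'
      | algebraMap c' => exact Q'.2.1 c'
      | add a b _ _ ha hb => exact (Q'.1.map_add _ _).trans (max_le ha hb)
      | mul a b _ _ ha hb => rw [map_mul]; exact mul_le_one' ha hb
    set B : Subring K := (Algebra.adjoin P.O ({y} : Set K)).toSubring with hB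
    have hAB : ∀ β ∈ Algebra.adjoin k ({x, y} : Set K), β ∈ B := fun β hβ =>
      adjoin_xy_mem_adjoin x y P hPx hβ
    have hBint : ∀ p ∈ B, ∀ Q' ∈ Qs, Q'.1 p ≤ 1 := fun p hp Q' hQ' =>
      val_le_one_of_isIntegral P (adjoin_le_integralClosure hyI hp) Q' ((hQs Q').1 hQ')
    have hlift : ∀ c' : K, Q.1 c' ≤ 1 → ∃ u ∈ B, Q.1 (c' - u) < 1 := by
      intro c' hc'
      obtain ⟨c₀, hc₀⟩ := exists_const_sub_lt_one hK Q hc'
      exact ⟨algebraMap k K c₀, hAB _ (Subalgebra.algebraMap_mem _ c₀), hc₀⟩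
    obtain ⟨π₀, hπ₀⟩ := Q.2.2 (exp (-1 : ℤ))
    obtain ⟨π, hπA, w, hwA, hwQ, hπw⟩ := hns π₀ (by rw [hπ₀, ← exp_zero, exp_le_exp]; omega)
    have hπQ : Q.1 π = exp (-1 : ℤ) := by rw [← hπw, map_mul, hwQ, mul_one, hπ₀]
    have hsep : ∀ Q' ∈ Qs, Q' ≠ Q → ∃ β ∈ B, Q.1 β = 1 ∧ Q'.1 β < 1 := by
      intro Q' hQ' hne
      by_contra hcon
      push Not at hcon
      apply hne
      symm
      apply pl_eq_of_le
      intro z hz
      obtain ⟨u, hu, w', hw', hw'Q, hzw⟩ := hns z hz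
      have h1 : Q'.1 w' = 1 :=
        le_antisymm (hAint w' hw' Q' hQ') (hcon w' (hAB w' hw') hw'Q)
      have h2 := hAint u hu Q' hQ'
      rw [← hzw, map_mul, h1, mul_one] at h2
      exact h2
    obtain ⟨b₀, hb₀B, hb₀Q, hb₀'⟩ := exists_prod_sep Qs Q B hBint hsep
    have hbound := val_le_of_trace_le hK₀ hg₀ k k P Q e he φ hφ ΦQ hΦQ (gen (k := k) x) hx₀ hx''
      Qs hQs (B : Set K)
      (fun t ht m M hM => exists_subring_approx_small Qs Q B hlift π (hAB π hπA) hπQ b₀ hb₀B hb₀Q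
        hb₀' hBint t ht m M hM)
      δ⁻¹ (fun z hz => trace_div_derivative_le_one P y htop hyI z hz)
    rw [hdiffExp, map_inv₀] at hbound
    have hv0 : Q.1 δ ≠ 0 := (Q.1.ne_zero_iff).2 hδ0
    rw [← exp_neg_log_eq_inv hv0, exp_le_exp] at hbound
    have : Q.ord δ ≤ LocRes.ordDiff ΦQ 1 x := hbound
    omega

end Groth.Agent.H27.Adj
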