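import Mathlib
import Groth.Agent.H27.Adj.Poly
import Groth.Agent.H55.FFProj
import Groth.Agent.H27.MapDivOne
import Groth.Agent.S12612

/-!
# Projective coordinates in general position with respect to a place
-/

set_option autoImplicit false

namespace Groth.Agent.H27.Adj

open FunFld WithZero MvPolynomial Groth.Agent.H55 Groth.Agent.H27.MapDivOne

variable {k K : Type*} [Field k] [Field K] [Algebra k K]

/-- The image point of a place under `(1 : x : y)`. -/
theorem exists_image_point [IsAlgClosed k] (hK : IsFunctionField k K) (φ : Fin 3 → K)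
    (hφ0 : φ 0 = 1) (Q : Place k K) :
    ∃ (j : Fin 3) (p₀ : Fin 3 → k), φ j ≠ 0 ∧ p₀ ≠ 0 ∧
      ∀ i, Q.1 (φ i / φ j - algebraMap k K (p₀ i)) < 1 := by
  classical
  obtain ⟨j, -, hj⟩ := Finset.exists_max_image Finset.univ (fun i => Q.1 (φ i))
    ⟨0, Finset.mem_univ _⟩
  have hj' : ∀ i, Q.1 (φ i) ≤ Q.1 (φ j) := fun i => hj i (Finset.mem_univ _)
  have hφj0 : φ j ≠ 0 := by
    intro h0
    have := hj' 0
    rw [hφ0, map_one, h0, map_zero] at this
    exact not_le.2 zero_lt_one this
  have hvj : Q.1 (φ j) ≠ 0 := (Q.1.ne_zero_iff).2 hφj0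
  have hint : ∀ i, Q.1 (φ i / φ j) ≤ 1 := fun i => by
    rw [map_div₀, div_le_one₀ (zero_lt_iff.2 hvj)]
    exact hj' i
  choose p₀ hp₀ using fun i => exists_const_sub_lt_one hK Q (hint i)
  refine ⟨j, p₀, hφj0, ?_, hp₀⟩
  intro h0
  have := hp₀ j
  rw [h0, Pi.zero_apply, map_zero, sub_zero, div_self hφj0, map_one] at this
  exact lt_irrefl _ this

/-- The image point lies on the curve. -/
theorem eval_image_point (Q : Place k K) {F : MvPolynomial (Fin 3) k} {d : ℕ}
    (hF : F.IsHomogeneous d) (φ : Fin 3 → K) (hFφ : aeval φ F = 0) (j : Fin 3) (p₀ : Fin 3 → k)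
    (h : ∀ i, Q.1 (φ i / φ j - algebraMap k K (p₀ i)) < 1) : eval p₀ F = 0 := by
  have e := Groth.Agent.H81.Dehom.aeval_mul_of_isHomogeneous hF (φ j)⁻¹ φ
  rw [hFφ, mul_zero] at e
  have hcong := val_aeval_sub_eval_lt Q (fun i => (φ j)⁻¹ * φ i) p₀ (fun i => by
    rw [inv_mul_eq_div]; exact h i) F
  rw [e, zero_sub, Valuation.map_neg] at hcong
  exact const_eq_zero_of_val_lt Q hcong

theorem aeval_algebraMap_comp {σ : Type*} (w : σ → k) (F : MvPolynomial σ k) :
    aeval (fun i => algebraMap k K (w i)) F = algebraMap k K (eval w F) := by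
  have := AlgHom.congr_fun (MvPolynomial.comp_aeval w (Algebra.ofId k K)) F
  rw [AlgHom.comp_apply] at this
  rw [← MvPolynomial.coe_aeval_eq_eval]
  exact this.symm

/-- A centre of projection off the curve and off the polar line. -/
theorem exists_w [Infinite k] {F : MvPolynomial (Fin 3) k} (hF0 : F ≠ 0) (G : Fin 3 → K)
    (hG : G 2 ≠ 0) :
    ∃ w : Fin 3 → k, eval w F ≠ 0 ∧ ∑ i, algebraMap k K (w i) * G i ≠ 0 := by
  classical
  by_contra hall
  push Not at hall
  set lin : MvPolynomial (Fin 3) K := ∑ i, C (G i) * X i with hlin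
  have hlin0 : lin ≠ 0 := by
    intro h0
    have := congrArg (eval ![0, 0, 1]) h0
    rw [hlin, map_sum, map_zero] at this
    simp [Fin.sum_univ_three] at this
    exact hG this
  have hmap0 : MvPolynomial.map (algebraMap k K) F ≠ 0 := by
    intro h0
    apply hF0
    apply MvPolynomial.map_injective _ (algebraMap k K).injective
    rw [h0, map_zero]
  have hΨ : MvPolynomial.map (algebraMap k K) F * lin = 0 := by
    apply MvPolynomial.funext_set (fun _ : Fin 3 => Set.range (algebraMap k K))
      (fun _ => Set.infinite_range_of_injective (algebraMap k K).injective)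
    intro v hv
    have hv' : ∀ i, ∃ c : k, algebraMap k K c = v i := fun i => hv i (Set.mem_univ _)
    choose w hw using hv'
    have hvw : v = fun i => algebraMap k K (w i) := funext (fun i => (hw i).symm)
    rw [map_mul, map_zero, MvPolynomial.eval_map, ← MvPolynomial.aeval_def, hvw,
      aeval_algebraMap_comp]
    by_cases h0 : eval w F = 0
    · rw [h0, map_zero, zero_mul]
    · have := hall w h0
      rw [hlin, map_sum]
      simp only [map_mul, eval_C, eval_X]
      rw [mul_eq_zero]
      right
      rw [← this]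
      exact Finset.sum_congr rfl (fun i _ => mul_comm _ _)
  rcases mul_eq_zero.1 hΨ with h | h
  · exact hmap0 h
  · exact hlin0 h

/-- Completing two independent vectors to an invertible matrix with prescribed first and third
columns. -/
theorem exists_matrix (p₀ w : Fin 3 → k) (h : LinearIndependent k ![p₀, w]) :
    ∃ A : Matrix (Fin 3) (Fin 3) k, A.det ≠ 0 ∧ (∀ i, A i 0 = p₀ i) ∧ (∀ i, A i 2 = w i) := by
  obtain ⟨b, hb⟩ := exists_linearIndependent_cons_of_lt_finrank h (by simp)
  set M : Matrix (Fin 3) (Fin 3) k := Matrix.of ![p₀, b, w] with hM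
  have hrow : LinearIndependent k M.row := by
    have h1 := (linearIndependent_equiv (Equiv.swap (0 : Fin 3) 1)).2 hb
    have hfun : M.row = Fin.cons b ![p₀, w] ∘ ⇑(Equiv.swap (0 : Fin 3) 1) := by
      funext i
      fin_cases i
      · simp only [Function.comp_apply, Fin.zero_eta, Equiv.swap_apply_left]
        rfl
      · simp only [Function.comp_apply, Fin.mk_one, Equiv.swap_apply_right]
        rfl
      · have h2 : (Equiv.swap (0 : Fin 3) 1) 2 = 2 :=
          Equiv.swap_apply_of_ne_of_ne (by decide) (by decide)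
        simp only [Function.comp_apply, Fin.reduceFinMk, h2]
        rfl
    rw [hfun]
    exact h1
  have hunit : IsUnit M := Matrix.linearIndependent_rows_iff_isUnit.1 hrow
  have hdet : M.det ≠ 0 := ((Matrix.isUnit_iff_isUnit_det M).1 hunit).ne_zero
  refine ⟨M.transpose, by rw [Matrix.det_transpose]; exact hdet, fun i => rfl, fun i => rfl⟩

end Groth.Agent.H27.Adj
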