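import Mathlib
import Groth.Agent.H27.Adj.GenPos

/-!
# Projective coordinates in general position: existence
-/

set_option autoImplicit false

namespace Groth.Agent.H27.Adj

open FunFld WithZero MvPolynomial Groth.Agent.H55 Groth.Agent.H27.MapDivOne

variable {k K : Type*} [Field k] [Field K] [Algebra k K]

theorem aeval_eq_eval' {σ : Type*} (c : σ → k) (p : MvPolynomial σ k) :
    aeval c p = eval c p := by
  rw [← MvPolynomial.coe_aeval_eq_eval]
  rfl

theorem eval_aeval_lin (A : Matrix (Fin 3) (Fin 3) k) (c : Fin 3 → k) (F : MvPolynomial (Fin 3) k) :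
    eval c (aeval (fun i : Fin 3 => ∑ j, C (A i j) * X j) F) =
      eval (fun i => ∑ j, A i j * c j) F := by
  have h := AlgHom.congr_fun (MvPolynomial.comp_aeval
    (fun i : Fin 3 => ∑ j, C (A i j) * (X j : MvPolynomial (Fin 3) k)) (aeval c : _ →ₐ[k] k)) F
  rw [AlgHom.comp_apply] at h
  rw [← aeval_eq_eval', ← aeval_eq_eval', h]
  congr 2
  funext i
  simp [aeval_eq_eval']

theorem aeval_aeval_lin (A : Matrix (Fin 3) (Fin 3) k) (v : Fin 3 → K)
    (G : MvPolynomial (Fin 3) k) :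
    aeval v (aeval (fun i : Fin 3 => ∑ j, C (A i j) * X j) G) =
      aeval (fun i => ∑ j, algebraMap k K (A i j) * v j) G := by
  have h := AlgHom.congr_fun (MvPolynomial.comp_aeval
    (fun i : Fin 3 => ∑ j, C (A i j) * (X j : MvPolynomial (Fin 3) k)) (aeval v : _ →ₐ[k] K)) G
  rw [AlgHom.comp_apply] at h
  rw [h]
  congr 2
  funext i
  simp

theorem pderiv_aeval_lin (A : Matrix (Fin 3) (Fin 3) k) (F : MvPolynomial (Fin 3) k) :
    pderiv 2 (aeval (fun i : Fin 3 => ∑ j, C (A i j) * X j) F) =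
      ∑ i, aeval (fun i : Fin 3 => ∑ j, C (A i j) * X j) (pderiv i F) * C (A i 2) := by
  have h := Groth.Agent.S12612.deriv_aeval (pderiv (2 : Fin 3) :
    Derivation k (MvPolynomial (Fin 3) k) (MvPolynomial (Fin 3) k))
    (fun i : Fin 3 => ∑ j, C (A i j) * X j) F
  rw [h]
  refine Finset.sum_congr rfl (fun i _ => ?_)
  rw [smul_eq_mul]
  congr 1
  rw [map_sum]
  simp [Fin.sum_univ_three, pderiv_X]

theorem exists_coord [IsAlgClosed k] (hK : IsFunctionField k K) {F : MvPolynomial (Fin 3) k}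
    {d : ℕ} (hF : F.IsHomogeneous d) (x y : K) (hFxy : aeval ![(1 : K), x, y] F = 0)
    (hFy : aeval ![(1 : K), x, y] (pderiv 2 F) ≠ 0) (Q : Place k K) :
    ∃ (A : Matrix (Fin 3) (Fin 3) k) (u : Fin 3 → K), A.det ≠ 0 ∧
      (∀ i, ∑ j, algebraMap k K (A i j) * u j = ![(1 : K), x, y] i) ∧ u 0 ≠ 0 ∧
      (∀ i, Q.1 (u i) ≤ Q.1 (u 0)) ∧
      eval ![0, 0, 1] (aeval (fun i : Fin 3 => ∑ j, C (A i j) * X j) F) ≠ 0 ∧
      aeval ![(1 : K), u 1 / u 0, u 2 / u 0]
        (pderiv 2 (aeval (fun i : Fin 3 => ∑ j, C (A i j) * X j) F)) ≠ 0 := by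
  classical
  obtain ⟨φ, hφ⟩ : ∃ φ : Fin 3 → K, φ = ![(1 : K), x, y] := ⟨_, rfl⟩
  rw [← hφ] at hFxy hFy ⊢
  have hφ0 : φ 0 = 1 := by rw [hφ]; rfl
  have hF0 : F ≠ 0 := by
    rintro rfl
    simp at hFy
  obtain ⟨j, p₀, hφj, hp₀, hcong⟩ := exists_image_point hK φ hφ0 Q
  have hFp₀ := eval_image_point Q hF φ hFxy j p₀ hcong
  obtain ⟨w, hw1, hw2⟩ := exists_w hF0 (fun i => aeval φ (pderiv i F)) hFy
  have hind : LinearIndependent k ![p₀, w] := by
    rw [LinearIndependent.pair_iff]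
    intro s t hst
    by_cases ht : t = 0
    · subst ht
      rw [zero_smul, add_zero] at hst
      rcases smul_eq_zero.1 hst with h | h
      · exact ⟨h, rfl⟩
      · exact absurd h hp₀
    · exfalso
      have hw : w = fun i => (-(s / t)) * p₀ i := by
        funext i
        have := congrFun hst i
        simp only [Pi.add_apply, Pi.smul_apply, smul_eq_mul, Pi.zero_apply] at this
        field_simp
        linear_combination this
      apply hw1
      rw [hw]
      have := Groth.Agent.H81.Dehom.aeval_mul_of_isHomogeneous (A := k) hF (-(s / t)) p₀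
      rw [aeval_eq_eval', aeval_eq_eval'] at this
      rw [this, hFp₀, mul_zero]
  obtain ⟨A, hA, hA0, hA2⟩ := exists_matrix p₀ w hind
  have hAinv : A⁻¹.det ≠ 0 := by
    rw [Matrix.det_nonsing_inv, Ring.inverse_eq_inv']
    exact inv_ne_zero hA
  obtain ⟨u, hudef⟩ : ∃ u : Fin 3 → K, u = fun i => ∑ l, algebraMap k K (A⁻¹ i l) * φ l :=
    ⟨_, rfl⟩
  have hu : ∀ i, ∑ j, algebraMap k K (A i j) * u j = φ i := by
    intro i
    have := inv_relation A⁻¹ hAinv φ u (fun i => by rw [hudef]) i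
    rwa [Matrix.nonsing_inv_nonsing_inv A (Ne.isUnit hA)] at this
  have hAp : ∀ i, ∑ l, A⁻¹ i l * p₀ l = if i = 0 then 1 else 0 := by
    intro i
    have h1 : (A⁻¹ * A) i 0 = (1 : Matrix (Fin 3) (Fin 3) k) i 0 := by
      rw [Matrix.nonsing_inv_mul A (Ne.isUnit hA)]
    rw [Matrix.mul_apply, Matrix.one_apply] at h1
    rw [← h1]
    exact Finset.sum_congr rfl (fun l _ => by rw [hA0])
  have hucong : ∀ i, Q.1 (u i / φ j - algebraMap k K (if i = 0 then 1 else 0)) < 1 := by
    intro i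
    have e : u i / φ j - algebraMap k K (if i = 0 then 1 else 0) =
        ∑ l, algebraMap k K (A⁻¹ i l) * (φ l / φ j - algebraMap k K (p₀ l)) := by
      rw [← hAp i, map_sum, hudef]
      simp only [Finset.sum_div, mul_sub, Finset.sum_sub_distrib, mul_div_assoc, map_mul]
    rw [e]
    refine Valuation.map_sum_lt _ one_ne_zero (fun l _ => ?_)
    rw [map_mul]
    calc Q.1 (algebraMap k K (A⁻¹ i l)) * Q.1 (φ l / φ j - algebraMap k K (p₀ l))
        ≤ 1 * Q.1 (φ l / φ j - algebraMap k K (p₀ l)) := mul_le_mul' (Q.2.1 _) le_rfl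
      _ < 1 := by rw [one_mul]; exact hcong l
  have hvj : Q.1 (φ j) ≠ 0 := (Q.1.ne_zero_iff).2 hφj
  have hu0val : Q.1 (u 0 / φ j) = 1 := by
    have h := hucong 0
    rw [if_pos rfl, map_one] at h
    have : u 0 / φ j = (u 0 / φ j - 1) + 1 := by ring
    rw [this, Valuation.map_add_eq_of_lt_right, map_one]
    rw [map_one]; exact h
  have hu0 : u 0 ≠ 0 := by
    intro h0
    rw [h0, zero_div, map_zero] at hu0val
    exact zero_ne_one hu0val
  have hu0v : Q.1 (u 0) = Q.1 (φ j) := by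
    rw [map_div₀, div_eq_one_iff_eq hvj] at hu0val
    exact hu0val
  have hule : ∀ i, Q.1 (u i) ≤ Q.1 (u 0) := by
    intro i
    by_cases hi : i = 0
    · rw [hi]
    · have h := hucong i
      rw [if_neg hi, map_zero, sub_zero, map_div₀, div_lt_one₀ (zero_lt_iff.2 hvj)] at h
      rw [hu0v]
      exact h.le
  refine ⟨A, u, hA, hu, hu0, hule, ?_, ?_⟩
  · rw [eval_aeval_lin]
    have : (fun i => ∑ j, A i j * (![0, 0, 1] : Fin 3 → k) j) = w := by
      funext i
      rw [← hA2 i]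
      simp [Fin.sum_univ_three]
    rw [this]
    exact hw1
  · have hd0 : d ≠ 0 := by
      rintro rfl
      have h0 : F.totalDegree = 0 := Nat.le_zero.1 hF.totalDegree_le
      apply hFy
      rw [MvPolynomial.totalDegree_eq_zero_iff_eq_C.1 h0, MvPolynomial.pderiv_C, map_zero]
    have hpd : ∀ i : Fin 3, (pderiv i F).IsHomogeneous (d - 1) := fun i => hF.pderiv
    have hv : (fun i => ∑ j, algebraMap k K (A i j) * (![(1 : K), u 1 / u 0, u 2 / u 0] : Fin 3 → K) j)
        = fun i => (u 0)⁻¹ * φ i := by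
      funext i
      rw [← hu i, Finset.mul_sum]
      simp only [Fin.sum_univ_three, Matrix.cons_val_zero, Matrix.cons_val_one, Matrix.cons_val_two,
        Matrix.head_cons, Matrix.tail_cons]
      field_simp
    rw [pderiv_aeval_lin, map_sum]
    have hterm : ∀ i, aeval ![(1 : K), u 1 / u 0, u 2 / u 0]
        (aeval (fun i : Fin 3 => ∑ j, C (A i j) * X j) (pderiv i F) * C (A i 2)) =
        ((u 0)⁻¹) ^ (d - 1) * (algebraMap k K (w i) * aeval φ (pderiv i F)) := by
      intro i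
      rw [map_mul, aeval_aeval_lin, hv,
        Groth.Agent.H81.Dehom.aeval_mul_of_isHomogeneous (hpd i), aeval_C, hA2]
      ring
    rw [Finset.sum_congr rfl (fun i _ => hterm i), ← Finset.mul_sum]
    exact mul_ne_zero (pow_ne_zero _ (inv_ne_zero hu0)) hw2

end Groth.Agent.H27.Adj
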