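import Mathlib
import Groth.Agent.H81.Dehom

/-!
# Homogenization of a polynomial in two variables
-/

set_option autoImplicit false

namespace Groth.Agent.H27.Adj

open MvPolynomial Groth.Agent.H81.Dehom

variable {k : Type*} [Field k]

/-- The homogenization of degree `d` of a polynomial in two variables. -/
noncomputable def hom (d : ℕ) (f : MvPolynomial (Fin 2) k) : MvPolynomial (Fin 3) k :=
  ∑ i ∈ Finset.range (d + 1), X 0 ^ (d - i) * homogeneousComponent i (incl 0 f)

theorem hom_isHomogeneous (d : ℕ) (f : MvPolynomial (Fin 2) k) : (hom d f).IsHomogeneous d := by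
  unfold hom
  refine IsHomogeneous.sum _ _ _ (fun i hi => ?_)
  have hi' := Finset.mem_range.mp hi
  have h := (isHomogeneous_X_pow (R := k) (0 : Fin 3) (d - i)).mul
    (homogeneousComponent_isHomogeneous i (incl 0 f))
  have e : d - i + i = d := by omega
  rwa [e] at h

theorem D_hom (f : MvPolynomial (Fin 2) k) : D 0 (hom f.totalDegree f) = f := by
  unfold hom
  rw [map_sum]
  have h : ∀ i ∈ Finset.range (f.totalDegree + 1),
      D 0 (X 0 ^ (f.totalDegree - i) * homogeneousComponent i (incl 0 f)) =
        D 0 (homogeneousComponent i (incl 0 f)) := by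
    intro i _
    rw [map_mul, map_pow, D_X_same, one_pow, one_mul]
  rw [Finset.sum_congr rfl h, ← map_sum]
  have hle : (incl (k := k) 0 f).totalDegree ≤ f.totalDegree := by
    unfold incl
    exact totalDegree_rename_le _ _
  have hsum : ∑ i ∈ Finset.range (f.totalDegree + 1), homogeneousComponent i (incl 0 f) =
      incl 0 f := by
    rw [← Finset.sum_subset (s₁ := Finset.range ((incl (k := k) 0 f).totalDegree + 1))]
    · exact sum_homogeneousComponent _
    · intro i hi
      rw [Finset.mem_range] at hi ⊢
      omega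
    · intro i _ hi
      rw [Finset.mem_range, not_lt] at hi
      exact homogeneousComponent_eq_zero _ _ (by omega)
  rw [hsum, D_incl]

theorem ins_zero {α : Type*} (a b c : α) : ins (n := 2) 0 a ![b, c] = ![a, b, c] := by
  funext i
  fin_cases i <;> rfl

theorem aeval_hom {A : Type*} [CommRing A] [Algebra k A] (f : MvPolynomial (Fin 2) k) (x y : A) :
    aeval ![1, x, y] (hom f.totalDegree f) = aeval ![x, y] f := by
  have h := aeval_D (k := k) 0 ![x, y] (hom f.totalDegree f)
  rw [D_hom, ins_zero] at h
  exact h.symm

theorem aeval_pderiv_hom {A : Type*} [CommRing A] [Algebra k A] (f : MvPolynomial (Fin 2) k)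
    (x y : A) :
    aeval ![1, x, y] (pderiv 2 (hom f.totalDegree f)) = aeval ![x, y] (pderiv 1 f) := by
  have h1 := pderiv_D (k := k) 0 1 (hom f.totalDegree f)
  rw [D_hom] at h1
  have h2 : (0 : Fin 3).succAbove 1 = 2 := rfl
  rw [h2] at h1
  rw [h1, aeval_D, ins_zero]

end Groth.Agent.H27.Adj
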