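import Mathlib
import Groth.Agent.H55.FFLoc2
import Groth.Agent.H27.MapDivOne

/-!
# Nonsingularity of a plane map in new projective coordinates
-/

set_option autoImplicit false

namespace Groth.Agent.H27.Adj

open FunFld WithZero Groth.Agent.H55 Groth.Agent.H27.MapDivOne

variable {k K : Type*} [Field k] [Field K] [Algebra k K]

theorem locSub_le_of_le_locSub {A B : Subalgebra k K} {P : Place k K} (h : A ≤ locSub B P) :
    locSub A P ≤ locSub B P := by
  rintro z ⟨u, hu, w, hw, hPw, hzw⟩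
  have hw0 : w ≠ 0 := by
    rintro rfl
    rw [map_zero] at hPw
    exact zero_ne_one hPw
  have : z = u * w⁻¹ := by
    rw [← hzw]; field_simp
  rw [this]
  exact Subalgebra.mul_mem _ (h hu) (inv_mem_locSub (h hw) hPw)

theorem nonsing_iff (A : Matrix (Fin 3) (Fin 3) k) (hA : A.det ≠ 0)
    (x y : K) (u : Fin 3 → K)
    (hu : ∀ i, ∑ j, algebraMap k K (A i j) * u j = ![(1 : K), x, y] i) (hu0 : u 0 ≠ 0)
    (Q : Place k K) (hQ : ∀ i, Q.1 (u i) ≤ Q.1 (u 0)) :
    IsNonsingularAt ![(1 : K), x, y] Q ↔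
      ∀ z : K, Q.1 z ≤ 1 →
        z ∈ locSub (Algebra.adjoin k ({u 1 / u 0, u 2 / u 0} : Set K)) Q := by
  classical
  obtain ⟨φ, hφ⟩ : ∃ φ : Fin 3 → K, φ = ![(1 : K), x, y] := ⟨_, rfl⟩
  rw [← hφ] at hu ⊢
  have hinv := fun i => inv_relation A hA u φ hu i
  obtain ⟨j, -, hj⟩ := Finset.exists_max_image Finset.univ (fun i => Q.1 (φ i))
    ⟨0, Finset.mem_univ _⟩
  have hj' : ∀ i, Q.1 (φ i) ≤ Q.1 (φ j) := fun i => hj i (Finset.mem_univ _)
  have hφ0 : φ 0 = 1 := by rw [hφ]; rfl
  have hφj0 : φ j ≠ 0 := by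
    intro h0
    have := hj' 0
    rw [hφ0, map_one, h0, map_zero] at this
    exact not_le.2 zero_lt_one this
  have hval : Q.1 (φ j) = Q.1 (u 0) := by
    apply le_antisymm
    · rw [← hu j]
      exact val_lincomb_le Q A u _ hQ j
    · rw [← hinv 0]
      exact val_lincomb_le Q A⁻¹ φ _ hj' 0
  have hvu0 : Q.1 (u 0) ≠ 0 := (Q.1.ne_zero_iff).2 hu0
  have hiff := inLocRing_iff φ Q j hφj0 hj'
  have h1 : Acoord k (fun i => φ i / φ j) ≤
      locSub (Algebra.adjoin k ({u 1 / u 0, u 2 / u 0} : Set K)) Q := by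
    apply Algebra.adjoin_le
    rintro _ ⟨i, rfl⟩
    have hnum : ∀ i, φ i / u 0 ∈ Algebra.adjoin k ({u 1 / u 0, u 2 / u 0} : Set K) := by
      intro i
      rw [← hu i, Finset.sum_div]
      refine Subalgebra.sum_mem _ (fun l _ => ?_)
      rw [mul_div_assoc]
      refine Subalgebra.mul_mem _ (Subalgebra.algebraMap_mem _ _) ?_
      fin_cases l
      · simp only [Fin.zero_eta]
        rw [div_self hu0]
        exact Subalgebra.one_mem _
      · exact Algebra.subset_adjoin (by simp)
      · exact Algebra.subset_adjoin (by simp)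
    have e : φ i / φ j = (φ i / u 0) / (φ j / u 0) := by
      field_simp
    show φ i / φ j ∈ _
    rw [e]
    refine div_mem_locSub (hnum i) (hnum j) ?_
    rw [map_div₀, hval, div_self hvu0]
  have h2 : Algebra.adjoin k ({u 1 / u 0, u 2 / u 0} : Set K) ≤
      locSub (Acoord k (fun i => φ i / φ j)) Q := by
    have hnum : ∀ l, u l / φ j ∈ Acoord k (fun i => φ i / φ j) := by
      intro l
      rw [← hinv l, Finset.sum_div]
      refine Subalgebra.sum_mem _ (fun i _ => ?_)
      rw [mul_div_assoc]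
      exact Subalgebra.mul_mem _ (Subalgebra.algebraMap_mem _ _)
        (Algebra.subset_adjoin ⟨i, rfl⟩)
    have hden : Q.1 (u 0 / φ j) = 1 := by
      rw [map_div₀, hval, div_self hvu0]
    apply Algebra.adjoin_le
    intro z hz
    rcases hz with rfl | hz
    · have e : u 1 / u 0 = (u 1 / φ j) / (u 0 / φ j) := by field_simp
      show u 1 / u 0 ∈ _
      rw [e]
      exact div_mem_locSub (hnum 1) (hnum 0) hden
    · rw [Set.mem_singleton_iff] at hz
      have e : u 2 / u 0 = (u 2 / φ j) / (u 0 / φ j) := by field_simp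
      show z ∈ _
      rw [hz, e]
      exact div_mem_locSub (hnum 2) (hnum 0) hden
  have h1' := locSub_le_of_le_locSub h1
  have h2' := locSub_le_of_le_locSub h2
  constructor
  · intro hns z hz
    exact h1' ((hiff z).1 (hns z hz))
  · intro hns z hz
    exact (hiff z).2 (h2' (hns z hz))

end Groth.Agent.H27.Adj
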