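import Mathlib
import Groth.Agent.H27.Adj.Core3
import Groth.Agent.H27.Adj.Hom
import Groth.Agent.H27.Adj.Nonsing
import Groth.Agent.H27.Adj.GenPos2
import Groth.Agent.S12616
import Groth.Agent.H81.PlaneDeg
import Groth.Agent.H27.DivDiff

/-!
# The adjoint divisor is effective, with support the singular places
-/

set_option autoImplicit false

namespace Groth.Agent.H27.Adj

open FunFld WithZero MvPolynomial Groth.Agent.H55 Groth.Agent.H27.MapDivOne
  Groth.Agent.H27.DivDiff Groth.Agent.H27.DiffExp Groth.Agent.H27.Tate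

universe u v

variable {k : Type u} {K : Type v} [Field k] [Field K] [Algebra k K]

theorem lin_eq (A : Matrix (Fin 3) (Fin 3) k) (u φ : Fin 3 → K)
    (hu : ∀ i, ∑ j, algebraMap k K (A i j) * u j = φ i) (hu0 : u 0 ≠ 0) :
    (fun i => ∑ j, algebraMap k K (A i j) * (![(1 : K), u 1 / u 0, u 2 / u 0] : Fin 3 → K) j)
      = fun i => (u 0)⁻¹ * φ i := by
  funext i
  rw [← hu i, Finset.mul_sum]
  simp only [Fin.sum_univ_three, Matrix.cons_val_zero, Matrix.cons_val_one, Matrix.cons_val_two,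
    Matrix.head_cons, Matrix.tail_cons]
  field_simp

theorem isHomogeneous_aeval_lin (A : Matrix (Fin 3) (Fin 3) k) {F : MvPolynomial (Fin 3) k}
    {d : ℕ} (hF : F.IsHomogeneous d) :
    (aeval (fun i : Fin 3 => ∑ j, C (A i j) * X j) F).IsHomogeneous d := by
  have h := hF.aeval (fun i : Fin 3 => ∑ j, C (A i j) * (X j : MvPolynomial (Fin 3) k)) (n := 1)
    (fun i => IsHomogeneous.sum _ _ _ (fun j _ => isHomogeneous_C_mul_X _ _))
  rwa [one_mul] at h

theorem adjoint_coeff [IsAlgClosed k] (hK : IsFunctionField k K) (x y : K)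
    (hxy : IntermediateField.adjoin k ({x, y} : Set K) = ⊤)
    (f : MvPolynomial (Fin 2) k) (hf : Irreducible f) (hfxy : aeval ![x, y] f = 0)
    (Q : Place k K) (ΦQ : K →ₐ[k] LaurentSeries k) (hΦQ : LocRes.IsExpansionAt Q.1 ΦQ)
    (hne : LocRes.vDiff ΦQ (aeval ![x, y] (pderiv 1 f))⁻¹ x ≠ 0) :
    0 ≤ ((mapDiv k ![(1 : K), x, y]).deg - 3) * mapDiv k ![(1 : K), x, y] Q -
        LocRes.ordDiff ΦQ (aeval ![x, y] (pderiv 1 f))⁻¹ x ∧
    (((mapDiv k ![(1 : K), x, y]).deg - 3) * mapDiv k ![(1 : K), x, y] Q -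
        LocRes.ordDiff ΦQ (aeval ![x, y] (pderiv 1 f))⁻¹ x = 0 ↔
      IsNonsingularAt ![(1 : K), x, y] Q) := by
  classical
  obtain ⟨d, hd⟩ : ∃ d : ℕ, d = f.totalDegree := ⟨_, rfl⟩
  obtain ⟨F, hFdef⟩ : ∃ F : MvPolynomial (Fin 3) k, F = hom f.totalDegree f := ⟨_, rfl⟩
  have hF : F.IsHomogeneous d := by rw [hFdef, hd]; exact hom_isHomogeneous _ f
  have hFxy : aeval ![(1 : K), x, y] F = 0 := by rw [hFdef, aeval_hom]; exact hfxy
  have hFyeq : aeval ![(1 : K), x, y] (pderiv 2 F) = aeval ![x, y] (pderiv 1 f) := by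
    rw [hFdef]; exact aeval_pderiv_hom f x y
  rw [← hFyeq] at hne ⊢
  obtain ⟨Fy, hFy⟩ : ∃ Fy : K, Fy = aeval ![(1 : K), x, y] (pderiv 2 F) := ⟨_, rfl⟩
  rw [← hFy] at hne ⊢
  have hmd : (mapDiv k ![(1 : K), x, y]).deg = d := by
    rw [hd]
    exact Groth.Agent.H81.PlaneDeg.deg_mapDiv hK x y hxy f hf hfxy
  have hvm := vDiff_eq_mul hΦQ Fy⁻¹ x
  rw [hvm] at hne
  have hFy0 : Fy ≠ 0 := by
    intro h0
    rw [h0, inv_zero, map_zero, zero_mul] at hne
    exact hne rfl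
  have hx1 : LocRes.vDiff ΦQ 1 x ≠ 0 := fun h0 => hne (by rw [h0, mul_zero])
  have hDx : LocRes.D k (ΦQ x) ≠ 0 := by
    intro h0
    apply hx1
    unfold LocRes.vDiff
    rw [h0, mul_zero, map_zero]
  have hdx : KaehlerDifferential.D k K x ≠ 0 := D_ne_zero_of_expansion ΦQ x hDx
  obtain ⟨A, u, hA, hu, hu0, hule, hce, hFy'0⟩ :=
    exists_coord hK hF x y hFxy (by rw [← hFy]; exact hFy0) Q
  obtain ⟨F', hF'def⟩ : ∃ F' : MvPolynomial (Fin 3) k,
      F' = aeval (fun i : Fin 3 => ∑ j, C (A i j) * X j) F := ⟨_, rfl⟩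
  rw [← hF'def] at hce hFy'0
  obtain ⟨x', hx'⟩ : ∃ x' : K, x' = u 1 / u 0 := ⟨_, rfl⟩
  obtain ⟨y', hy'⟩ : ∃ y' : K, y' = u 2 / u 0 := ⟨_, rfl⟩
  obtain ⟨Fy', hFy'⟩ : ∃ Fy' : K, Fy' = aeval ![(1 : K), u 1 / u 0, u 2 / u 0] (pderiv 2 F') :=
    ⟨_, rfl⟩
  have hF' : F'.IsHomogeneous d := by rw [hF'def]; exact isHomogeneous_aeval_lin A hF
  have hlin := lin_eq A u ![(1 : K), x, y] hu hu0
  have hF'xy : aeval ![(1 : K), u 1 / u 0, u 2 / u 0] F' = 0 := by
    rw [hF'def, aeval_aeval_lin, hlin, Groth.Agent.H81.Dehom.aeval_mul_of_isHomogeneous hF, hFxy,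
      mul_zero]
  -- generation
  have hgen' : IntermediateField.adjoin k ({u 1 / u 0, u 2 / u 0} : Set K) = ⊤ := by
    have hℓ : ∀ i, (u 0)⁻¹ * (![(1 : K), x, y] : Fin 3 → K) i ∈
        IntermediateField.adjoin k ({u 1 / u 0, u 2 / u 0} : Set K) := by
      intro i
      rw [← congrFun hlin i]
      refine sum_mem (fun l _ => mul_mem (IntermediateField.algebraMap_mem _ _) ?_)
      fin_cases l
      · exact one_mem _
      · exact IntermediateField.subset_adjoin k _ (by simp)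
      · exact IntermediateField.subset_adjoin k _ (by simp)
    have h0 := hℓ 0
    have hmem : ∀ i, (![(1 : K), x, y] : Fin 3 → K) i ∈
        IntermediateField.adjoin k ({u 1 / u 0, u 2 / u 0} : Set K) := by
      intro i
      have e : (![(1 : K), x, y] : Fin 3 → K) i =
          ((u 0)⁻¹ * (![(1 : K), x, y] : Fin 3 → K) i) /
            ((u 0)⁻¹ * (![(1 : K), x, y] : Fin 3 → K) 0) := by
        simp only [Matrix.cons_val_zero, mul_one]
        field_simp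
      rw [e]
      exact div_mem (hℓ i) h0
    rw [eq_top_iff, ← hxy, IntermediateField.adjoin_le_iff]
    intro z hz
    rcases hz with rfl | hz
    · exact hmem 1
    · rw [Set.mem_singleton_iff] at hz
      rw [hz]
      exact hmem 2
  have hmd' : (mapDiv k ![(1 : K), u 1 / u 0, u 2 / u 0]).deg = d := by
    rw [mapDiv_coord_change_eq hK A hA x y u hu hu0, deg_add, deg_div hK, add_zero, hmd]
  have hvu0 : Q.1 (u 0) ≠ 0 := (Q.1.ne_zero_iff).2 hu0
  have hQx' : Q.1 (u 1 / u 0) ≤ 1 := by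
    rw [map_div₀, div_le_one₀ (zero_lt_iff.2 hvu0)]
    exact hule 1
  have hQy' : Q.1 (u 2 / u 0) ≤ 1 := by
    rw [map_div₀, div_le_one₀ (zero_lt_iff.2 hvu0)]
    exact hule 2
  -- the differential identity
  have hid := Groth.Agent.S12612.result k K F d hF x y hFxy A hA u hu hu0
    (by rw [← hFy]; exact hFy0) (by rw [← hF'def, ← hFy']; rw [← hFy'] at hFy'0; exact hFy'0)
  have hdx' : KaehlerDifferential.D k K (u 1 / u 0) ≠ 0 := by
    intro h0
    rw [h0, smul_zero] at hid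
    rcases smul_eq_zero.1 hid with h | h
    · rw [← hFy] at h
      exact inv_ne_zero hFy0 h
    · exact hdx h
  rw [← hFy'] at hFy'0
  have hDx' := D_expansion_ne_zero hK hdx' ΦQ Q hΦQ
  have hne' : LocRes.vDiff ΦQ Fy'⁻¹ (u 1 / u 0) ≠ 0 := by
    rw [vDiff_eq_mul hΦQ]
    refine mul_ne_zero ((Q.1.ne_zero_iff).2 (inv_ne_zero hFy'0)) ?_
    unfold LocRes.vDiff
    rw [map_one, one_mul]
    exact (Valuation.ne_zero_iff _).2 hDx'
  rw [hFy'] at hne'
  obtain ⟨hc1, hc2⟩ := core hK hF' (u 1 / u 0) (u 2 / u 0) hF'xy hce hgen' hmd' Q hQx' ΦQ hΦQ hne'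
  rw [← hFy'] at hc1 hc2
  have hns := nonsing_iff A hA x y u hu hu0 Q hule
  -- the family of expansions
  have hex : ∀ P : Place k K, ∃ φ : K →ₐ[k] LaurentSeries k, LocRes.IsExpansionAt P.1 φ :=
    fun P => Groth.Agent.H27.ExistsExp.exists_expansion hK P
  obtain ⟨Φ, hΦQeq, hΦ⟩ : ∃ Φ : Place k K → (K →ₐ[k] LaurentSeries k), Φ Q = ΦQ ∧
      ∀ P, LocRes.IsExpansionAt P.1 (Φ P) := by
    refine ⟨fun P => if h : P = Q then ΦQ else (hex P).choose, by simp, fun P => ?_⟩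
    by_cases h : P = Q
    · subst h; simpa using hΦQ
    · simp only [dif_neg h]; exact (hex P).choose_spec
  have hS := Groth.Agent.S12616.result k K hK F d hF x y hFxy hdx hmd A hA u hu hu0
    (by rw [← hFy]; exact hFy0) (by rw [← hF'def, ← hFy']; exact hFy'0) Φ hΦ
  rw [← hFy, ← hF'def, ← hFy'] at hS
  have hSQ := congrArg (fun D : Divisor k K => D Q) hS
  simp only [Finsupp.coe_sub, Finsupp.coe_smul, Pi.sub_apply, Pi.smul_apply, smul_eq_mul] at hSQ
  have h1 : divDiff Φ Fy⁻¹ x Q = LocRes.ordDiff ΦQ Fy⁻¹ x := by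
    rw [divDiff_apply' hK hdx Φ hΦ (inv_ne_zero hFy0) Q, hΦQeq,
      ← ordDiff_smul hK hdx ΦQ Q hΦQ (inv_ne_zero hFy0)]
  have h2 : divDiff Φ Fy'⁻¹ (u 1 / u 0) Q = LocRes.ordDiff ΦQ Fy'⁻¹ (u 1 / u 0) := by
    rw [divDiff_apply' hK hdx' Φ hΦ (inv_ne_zero hFy'0) Q, hΦQeq,
      ← ordDiff_smul hK hdx' ΦQ Q hΦQ (inv_ne_zero hFy'0)]
  have h3 : mapDiv k ![(1 : K), u 1 / u 0, u 2 / u 0] Q = 0 := by
    apply mapDiv_eq_of_val hK _ 0 rfl Q
    · intro i
      rw [exp_zero]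
      fin_cases i
      · simp
      · exact hQx'
      · exact hQy'
    · exact ⟨0, by simp⟩
  rw [h1, h2, h3, mul_zero, zero_sub] at hSQ
  rw [hSQ]
  exact ⟨hc1, hc2.trans hns.symm⟩

end Groth.Agent.H27.Adj
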